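import Cfsg.Agent.OddLocal.NormalElementary
import Cfsg.Agent.Fusion.RankTwo

/-!
For `p` odd, a `p`-group with an elementary abelian subgroup of order `p ^ 4` has a normal one.

The group is handled by induction: a maximal subgroup `M` contains a normal one, `U`; if no normal
one exists in `G`, a maximal normal elementary abelian subgroup `A` has order `p ^ 3` and every
elementary abelian `U` of order `p ^ 4` meets it in one fixed subgroup `H` of order `p ^ 2`, which
forces all conjugates of `U` to be equal.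
-/

set_option autoImplicit false
set_option linter.unusedSectionVars false
set_option linter.style.haveILetI false

namespace Cfsg.Agent.PGroupRank

open Subgroup Cfsg
open scoped commutatorElement Pointwise

universe u

variable {G : Type u} [Group G] [Finite G] {p : ℕ} [hp : Fact p.Prime]

/-- The orbit map of an element whose conjugates lie in one coset. -/
theorem exists_orbit_map (S : Subgroup G) (K : Subgroup G) (x : G)
    (h : ∀ s ∈ S, x⁻¹ * (s * x * s⁻¹) ∈ K) :
    ∃ f : ↥S ⧸ (centralizer ({x} : Set G)).subgroupOf S → ↥K, Function.Injective f ∧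
      ∀ s : ↥S, ((f (s : ↥S ⧸ (centralizer ({x} : Set G)).subgroupOf S)) : G) = x⁻¹ * (s * x * (s : G)⁻¹) := by
  refine ⟨Quotient.lift (fun s : ↥S => (⟨x⁻¹ * (s * x * (s : G)⁻¹), h s s.2⟩ : ↥K)) ?_, ?_, fun s => rfl⟩
  · intro a b hab
    have hc := mem_centralizer_singleton_iff.mp (mem_subgroupOf.mp (QuotientGroup.leftRel_apply.mp hab))
    simp only [Subgroup.coe_mul, Subgroup.coe_inv] at hc
    refine Subtype.ext (congrArg (x⁻¹ * ·) ?_)
    calc (a : G) * x * (a : G)⁻¹ = (a : G) * (x * ((a : G)⁻¹ * b)) * (b : G)⁻¹ := by group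
      _ = (a : G) * (((a : G)⁻¹ * b) * x) * (b : G)⁻¹ := by rw [hc]
      _ = (b : G) * x * (b : G)⁻¹ := by group
  · intro a b
    induction a using QuotientGroup.induction_on with | H a => ?_
    induction b using QuotientGroup.induction_on with | H b => ?_
    intro hab
    have h1 : (a : G) * x * (a : G)⁻¹ = (b : G) * x * (b : G)⁻¹ :=
      mul_left_cancel (congrArg Subtype.val hab : x⁻¹ * _ = x⁻¹ * _)
    rw [QuotientGroup.eq, mem_subgroupOf, mem_centralizer_singleton_iff]
    simp only [Subgroup.coe_mul, Subgroup.coe_inv]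
    calc (a : G)⁻¹ * b * x = (a : G)⁻¹ * ((b : G) * x * (b : G)⁻¹) * b := by group
      _ = x * ((a : G)⁻¹ * b) := by rw [← h1]; group

/-- Orbit counting. -/
theorem relIndex_centralizer_le (S K : Subgroup G) (x : G) (h : ∀ s ∈ S, x⁻¹ * (s * x * s⁻¹) ∈ K) :
    (centralizer ({x} : Set G)).relIndex S ≤ Nat.card K := by
  obtain ⟨f, hf, -⟩ := exists_orbit_map S K x h
  rw [relIndex, index_eq_card]
  exact Nat.card_le_card_of_injective f hf

theorem inv_mul_conj_mem {L K : Subgroup G} (hc : ⁅L, (⊤ : Subgroup G)⁆ ≤ K) {x : G} (hx : x ∈ L)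
    (g : G) : x⁻¹ * (g * x * g⁻¹) ∈ K := by
  have h := hc (commutator_mem_commutator (inv_mem hx) (mem_top g))
  rw [commutatorElement_def, inv_inv] at h
  simpa [mul_assoc] using h

theorem exists_mem_notMem_of_card_lt {H L : Subgroup G} (h : Nat.card H < Nat.card L) :
    ∃ x ∈ L, x ∉ H := by
  by_contra hc
  push Not at hc
  exact (Nat.not_lt.mpr (card_le_of_le hc)) h

/-- A subgroup one step above `H` is generated by `H` and any further element. -/
theorem sup_zpowers_eq (hG : IsPGroup p G) {H L : Subgroup G} (hHL : H ≤ L) {n : ℕ}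
    (hH : Nat.card H = p ^ n) (hL : Nat.card L = p ^ (n + 1)) {x : G} (hx : x ∈ L) (hxH : x ∉ H) :
    H ⊔ zpowers x = L := by
  have hle : H ⊔ zpowers x ≤ L := sup_le hHL (zpowers_le.mpr hx)
  refine eq_of_le_of_card_ge hle ?_
  obtain ⟨k, hk⟩ := IsPGroup.iff_card.mp (hG.to_subgroup (H ⊔ zpowers x))
  have hlt : H < H ⊔ zpowers x :=
    lt_of_le_not_ge le_sup_left fun h => hxH (h (mem_sup_right (mem_zpowers x)))
  have h1 : Nat.card H < Nat.card (H ⊔ zpowers x : Subgroup G) := Core.card_lt_of_lt hlt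
  rw [hH, hk] at h1
  rw [hL, hk]
  exact Nat.pow_le_pow_right hp.out.pos ((Nat.pow_lt_pow_iff_right hp.out.one_lt).mp h1)

theorem le_centralizer_sup_zpowers {S H : Subgroup G} {x : G} (hSH : S ≤ centralizer (H : Set G))
    (hSx : S ≤ centralizer ({x} : Set G)) : S ≤ centralizer ((H ⊔ zpowers x : Subgroup G) : Set G) := by
  refine le_centralizer_iff.mp (sup_le (le_centralizer_iff.mp hSH) (zpowers_le.mpr ?_))
  exact mem_centralizer_iff.mpr fun s hs => mem_centralizer_singleton_iff.mp (hSx hs)

/-- Every elementary abelian subgroup of order `p ^ 4` meets the normal subgroup `A` in `H`. -/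
theorem inf_eq_middle (hG : IsPGroup p G) {A H Z : Subgroup G} (hAc : IsMulCommutative A)
    (hΩ : ∀ x ∈ centralizer (A : Set G), x ^ p = 1 → x ∈ A)
    (hA : Nat.card A = p ^ 3) (hH : Nat.card H = p ^ 2) (hZ : Nat.card Z = p ^ 1)
    (hHA : H ≤ A) (hZH : Z ≤ H) (hcA : ⁅A, (⊤ : Subgroup G)⁆ ≤ H) (hcH : ⁅H, (⊤ : Subgroup G)⁆ ≤ Z)
    (hZc : Z ≤ center G) {U : Subgroup G} (hU : IsElementaryAbelian p U) (hUc : Nat.card U = p ^ 4) :
    U ⊓ A = H := by
  have hp1 := hp.out.one_lt
  have hAA : A ≤ centralizer (A : Set G) := le_centralizer_iff_isMulCommutative.mpr hAc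
  have hUU : U ≤ centralizer (U : Set G) := le_centralizer_iff_isMulCommutative.mpr hU.1
  set I := U ⊓ A with hI
  have hCA : ∀ S : Subgroup G, S ≤ U → S ≤ centralizer (A : Set G) → S ≤ I :=
    fun S hS hS' x hx => ⟨hS hx, hΩ x (hS' hx) (hU.2 x (hS hx))⟩
  obtain ⟨b, hbH, hbZ⟩ := exists_mem_notMem_of_card_lt (H := Z) (L := H)
    (by rw [hZ, hH]; exact Nat.pow_lt_pow_right hp1 (by omega))
  obtain ⟨a, haA, haH⟩ := exists_mem_notMem_of_card_lt (H := H) (L := A)
    (by rw [hH, hA]; exact Nat.pow_lt_pow_right hp1 (by omega))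
  set S := U ⊓ centralizer ({b} : Set G) with hS
  set T := S ⊓ centralizer ({a} : Set G) with hT
  have hSH : S ≤ centralizer (H : Set G) := by
    rw [← sup_zpowers_eq hG hZH (n := 1) hZ hH hbH hbZ]
    refine le_centralizer_sup_zpowers ?_ inf_le_right
    exact le_centralizer_iff.mp (hZc.trans (center_le_centralizer _))
  have hTI : T ≤ I := by
    refine hCA T (inf_le_left.trans inf_le_left) ?_
    rw [← sup_zpowers_eq hG hHA (n := 2) hH hA haA haH]
    exact le_centralizer_sup_zpowers (inf_le_left.trans hSH) inf_le_right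
  have hr1 : (centralizer ({b} : Set G)).relIndex U ≤ p := by
    have := relIndex_centralizer_le U Z b fun s _ => inv_mul_conj_mem hcH hbH s
    rwa [hZ, pow_one] at this
  have hr2 : (centralizer ({a} : Set G)).relIndex S ≤ p ^ 2 :=
    hH ▸ relIndex_centralizer_le S H a fun s _ => inv_mul_conj_mem hcA haA s
  have hcard : ∀ (C V : Subgroup G), Nat.card (V ⊓ C : Subgroup G) * C.relIndex V = Nat.card V := by
    intro C V
    rw [← Subgroup.inf_relIndex_left V C]
    exact Coprime.card_mul_relIndex_of_le inf_le_left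
  have hS' := hcard (centralizer ({b} : Set G)) U
  have hT' := hcard (centralizer ({a} : Set G)) S
  rw [← hS, hUc] at hS'
  rw [← hT] at hT'
  obtain ⟨i, hi⟩ := IsPGroup.iff_card.mp (hG.to_subgroup I)
  -- at least `p ^ 2`
  have hi2 : 2 ≤ i := by
    by_contra hlt
    have hTle : Nat.card T ≤ p := by
      refine (card_le_of_le hTI).trans ?_
      rw [hi]
      exact (Nat.pow_le_pow_right hp.out.pos (by omega : i ≤ 1)).trans (pow_one p).le
    have hr1' : (centralizer ({b} : Set G)).relIndex U = p ∧ (centralizer ({a} : Set G)).relIndex S = p ^ 2 := by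
      set r1 := (centralizer ({b} : Set G)).relIndex U
      set r2 := (centralizer ({a} : Set G)).relIndex S
      have e : Nat.card T * r2 * r1 = p ^ 4 := by rw [hT', hS']
      constructor
      · refine le_antisymm hr1 (le_of_not_gt fun h => ?_)
        have : Nat.card T * r2 * r1 < p * p ^ 2 * p :=
          Nat.mul_lt_mul_of_le_of_lt (Nat.mul_le_mul hTle hr2) h (by positivity)
        rw [e] at this
        exact absurd this (by rw [show p * p ^ 2 * p = p ^ 4 by ring]; exact lt_irrefl _)
      · refine le_antisymm hr2 (le_of_not_gt fun h => ?_)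
        have : Nat.card T * r2 < p * p ^ 2 := Nat.mul_lt_mul_of_le_of_lt hTle h hp.out.pos
        have h2 : Nat.card T * r2 * r1 < p * p ^ 2 * p :=
          Nat.mul_lt_mul_of_lt_of_le this hr1 hp.out.pos
        rw [e] at h2
        exact absurd h2 (by rw [show p * p ^ 2 * p = p ^ 4 by ring]; exact lt_irrefl _)
    obtain ⟨f, hf, hfs⟩ := exists_orbit_map S H a fun s _ => inv_mul_conj_mem hcA haA s
    have hbij : Function.Bijective f := (Nat.bijective_iff_injective_and_card f).mpr
      ⟨hf, by rw [← index_eq_card, ← relIndex, hr1'.2, hH]⟩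
    obtain ⟨q, hq⟩ := hbij.2 ⟨b, hbH⟩
    induction q using QuotientGroup.induction_on with | H s => ?_
    have hsb : (s : G) * a * (s : G)⁻¹ = a * b := by
      have := (hfs s).symm.trans (congrArg Subtype.val hq)
      calc (s : G) * a * (s : G)⁻¹ = a * (a⁻¹ * ((s : G) * a * (s : G)⁻¹)) := by group
        _ = a * b := by rw [this]
    obtain ⟨u, huU, huS⟩ : ∃ u ∈ U, u ∉ S := by
      refine exists_mem_notMem_of_card_lt ?_
      rw [hUc, ← hS', hr1'.1]
      exact lt_mul_of_one_lt_right Nat.card_pos hp1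
    set h := a⁻¹ * (u * a * u⁻¹) with hh
    have hhH : h ∈ H := inv_mul_conj_mem hcA haA u
    have hsh : (s : G) * h * (s : G)⁻¹ = h := by
      rw [← mem_centralizer_iff.mp (hSH s.2) h hhH, mul_inv_cancel_right]
    have hcomm : (s : G) * u = u * (s : G) := mem_centralizer_iff.mp (hUU huU) s s.2.1
    have hb : b * h = h * (u * b * u⁻¹) := by
      refine mul_left_cancel (a := a) ?_
      calc a * (b * h) = (s : G) * a * (s : G)⁻¹ * ((s : G) * h * (s : G)⁻¹) := by rw [hsb, hsh, mul_assoc]
        _ = (s : G) * u * a * ((s : G) * u)⁻¹ := by rw [hh]; group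
        _ = u * (s : G) * a * (u * (s : G))⁻¹ := by rw [hcomm]
        _ = u * ((s : G) * a * (s : G)⁻¹) * u⁻¹ := by group
        _ = u * (a * b) * u⁻¹ := by rw [hsb]
        _ = a * (h * (u * b * u⁻¹)) := by rw [hh]; group
    rw [mem_centralizer_iff.mp (hAA (hHA hhH)) b (hHA hbH)] at hb
    refine huS ⟨huU, mem_centralizer_singleton_iff.mpr ?_⟩
    exact mul_inv_eq_iff_eq_mul.mp (mul_left_cancel hb).symm
  -- at most `p ^ 2`
  have hi3 : i ≤ 2 := by
    by_contra hlt
    have hle : A ≤ U := by
      have : I = A := eq_of_le_of_card_ge inf_le_right (by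
        rw [hA, hi]; exact Nat.pow_le_pow_right hp.out.pos (by omega))
      exact this ▸ inf_le_left
    have h1 : U ≤ I := hCA U le_rfl (hUU.trans (centralizer_le hle))
    have := (card_le_of_le h1).trans (card_le_of_le (inf_le_right : I ≤ A))
    rw [hUc, hA, Nat.pow_le_pow_iff_right hp1] at this
    omega
  have hi' : i = 2 := le_antisymm hi3 hi2
  subst hi'
  -- it is `H`
  refine (eq_of_le_of_card_ge ?_ (by rw [hH, hi])).symm
  by_contra hne
  obtain ⟨c, hcH', hcI⟩ := SetLike.not_le_iff_exists.mp hne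
  have hgen : I ⊔ zpowers c = A := sup_zpowers_eq hG inf_le_right (n := 2) hi hA (hHA hcH') hcI
  have hfix : U ⊓ centralizer ({c} : Set G) ≤ I := by
    refine hCA _ inf_le_left ?_
    rw [← hgen]
    exact le_centralizer_sup_zpowers (inf_le_left.trans (hUU.trans (centralizer_le inf_le_left))) inf_le_right
  have hr : (centralizer ({c} : Set G)).relIndex U ≤ p := by
    have := relIndex_centralizer_le U Z c fun s _ => inv_mul_conj_mem hcH hcH' s
    rwa [hZ, pow_one] at this
  have h1 := hcard (centralizer ({c} : Set G)) U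
  rw [hUc] at h1
  have h2 : p ^ 4 ≤ p ^ 2 * p := by
    rw [← h1, ← hi]
    exact Nat.mul_le_mul (card_le_of_le hfix) hr
  rw [← pow_succ, Nat.pow_le_pow_iff_right hp1] at h2
  omega

/-- Two mutually normalising elementary abelian subgroups of order `p ^ 4` are equal. -/
theorem eq_of_normalize (hG : IsPGroup p G) (hodd : p ≠ 2) {A H Z : Subgroup G} [A.Normal]
    (hAc : IsMulCommutative A) (hΩ : ∀ x ∈ centralizer (A : Set G), x ^ p = 1 → x ∈ A)
    (hA : Nat.card A = p ^ 3) (hH : Nat.card H = p ^ 2) (hZ : Nat.card Z = p ^ 1)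
    (hHA : H ≤ A) (hZH : Z ≤ H) (hcA : ⁅A, (⊤ : Subgroup G)⁆ ≤ H) (hcH : ⁅H, (⊤ : Subgroup G)⁆ ≤ Z)
    (hZc : Z ≤ center G) {U V : Subgroup G} (hU : IsElementaryAbelian p U) (hUc : Nat.card U = p ^ 4)
    (hV : IsElementaryAbelian p V) (hVc : Nat.card V = p ^ 4) (hUV : U ≤ normalizer (V : Set G))
    (hVU : V ≤ normalizer (U : Set G)) : U = V := by
  have hp1 := hp.out.one_lt
  have hUA := inf_eq_middle hG hAc hΩ hA hH hZ hHA hZH hcA hcH hZc hU hUc
  have hVA := inf_eq_middle hG hAc hΩ hA hH hZ hHA hZH hcA hcH hZc hV hVc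
  have hUU : U ≤ centralizer (U : Set G) := le_centralizer_iff_isMulCommutative.mpr hU.1
  have hVV : V ≤ centralizer (V : Set G) := le_centralizer_iff_isMulCommutative.mpr hV.1
  obtain ⟨a, haA, haH⟩ := exists_mem_notMem_of_card_lt (H := H) (L := A)
    (by rw [hH, hA]; exact Nat.pow_lt_pow_right hp1 (by omega))
  have hcard : ∀ (C W : Subgroup G), Nat.card (W ⊓ C : Subgroup G) * C.relIndex W = Nat.card W := by
    intro C W
    rw [← Subgroup.inf_relIndex_left W C]
    exact Coprime.card_mul_relIndex_of_le inf_le_left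
  have hHU : H ≤ U := hUA ▸ inf_le_left
  have hHV : H ≤ V := hVA ▸ inf_le_left
  have hcomm : ∀ x ∈ U, ∀ y ∈ V, ⁅y, x⁆ ∈ U ⊓ V := by
    intro x hx y hy
    rw [commutatorElement_def]
    refine Subgroup.mem_inf.mpr ⟨mul_mem ((mem_normalizer_iff.mp (hVU hy) x).mp hx) (inv_mem hx), ?_⟩
    rw [mul_assoc, mul_assoc]
    refine mul_mem hy ?_
    rw [← mul_assoc]
    exact (mem_normalizer_iff.mp (hUV hx) y⁻¹).mp (inv_mem hy)
  -- the action of `U` on the coset `a H` is regular
  obtain ⟨f, hf, hfs⟩ := exists_orbit_map U H a fun s _ => inv_mul_conj_mem hcA haA s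
  have hbij : Function.Bijective f := by
    refine (Nat.bijective_iff_injective_and_card f).mpr ⟨hf, le_antisymm (Nat.card_le_card_of_injective f hf) ?_⟩
    have hfix : U ⊓ centralizer ({a} : Set G) ≤ H := by
      intro x hx
      have hxA : x ∈ centralizer (A : Set G) := by
        rw [← sup_zpowers_eq hG hHA (n := 2) hH hA haA haH]
        exact le_centralizer_sup_zpowers (inf_le_left.trans (hUU.trans (centralizer_le hHU)))
          inf_le_right hx
      exact hUA ▸ (⟨hx.1, hΩ x hxA (hU.2 x hx.1)⟩ : x ∈ U ⊓ A)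
    have h1 := hcard (centralizer ({a} : Set G)) U
    rw [hUc] at h1
    rw [← index_eq_card, ← relIndex, hH]
    by_contra hlt
    rw [not_le] at hlt
    have h2 : Nat.card (U ⊓ centralizer ({a} : Set G) : Subgroup G) ≤ p ^ 2 := hH ▸ card_le_of_le hfix
    have h3 := Nat.mul_lt_mul_of_le_of_lt h2 hlt (pow_pos hp.out.pos 2)
    rw [h1, ← pow_add] at h3
    exact lt_irrefl _ h3
  have hVL : V ≤ U ⊔ A := by
    intro v hv
    obtain ⟨q, hq⟩ := hbij.2 ⟨a⁻¹ * (v * a * v⁻¹), inv_mul_conj_mem hcA haA v⟩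
    induction q using QuotientGroup.induction_on with | H u => ?_
    have hua : (u : G) * a * (u : G)⁻¹ = v * a * v⁻¹ :=
      mul_left_cancel ((hfs u).symm.trans (congrArg Subtype.val hq))
    have hdA : (u : G)⁻¹ * v ∈ A := by
      refine hΩ _ ?_ ?_
      · have hd : zpowers ((u : G)⁻¹ * v) ≤ centralizer (A : Set G) := by
          rw [← sup_zpowers_eq hG hHA (n := 2) hH hA haA haH]
          refine le_centralizer_sup_zpowers (zpowers_le.mpr ?_) (zpowers_le.mpr ?_)
          · exact mul_mem (inv_mem (centralizer_le hHU (hUU u.2))) (centralizer_le hHV (hVV hv))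
          · rw [mem_centralizer_singleton_iff]
            calc (u : G)⁻¹ * v * a = (u : G)⁻¹ * (v * a * v⁻¹) * v := by group
              _ = a * ((u : G)⁻¹ * v) := by rw [← hua]; group
        exact hd (mem_zpowers _)
      · obtain ⟨hcU, hcV⟩ := hcomm _ (inv_mem u.2) v hv
        rw [Fusion.mul_pow_of_commute_commutator
          (mem_centralizer_iff.mp (hUU (inv_mem u.2)) _ hcU) (mem_centralizer_iff.mp (hVV hv) _ hcV) p,
          inv_pow, hU.2 _ u.2, hV.2 v hv, inv_one, one_mul, one_mul]
        obtain ⟨k, hk⟩ := hp.out.dvd_choose_self two_ne_zero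
          (lt_of_le_of_ne hp.out.two_le (Ne.symm hodd))
        rw [hk, pow_mul, hU.2 _ hcU, one_pow]
    have := mul_mem_sup u.2 hdA
    rwa [mul_inv_cancel_left] at this
  by_contra hne
  -- `U ⊔ A` has order `p ^ 5`
  have hL : Nat.card (U ⊔ A : Subgroup G) ≤ p ^ 5 := by
    have h1 : A.relIndex U * Nat.card H = p ^ 4 := by
      have := hcard A U
      rw [hUA, hUc] at this
      rw [mul_comm]
      exact this
    have h2 : Nat.card A * A.relIndex (U ⊔ A) = Nat.card (U ⊔ A : Subgroup G) :=
      Coprime.card_mul_relIndex_of_le le_sup_right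
    rw [Subgroup.relIndex_sup_right] at h2
    rw [← h2, hA]
    rw [hH] at h1
    have h3 : A.relIndex U = p ^ 2 := by
      have : A.relIndex U * p ^ 2 = p ^ 2 * p ^ 2 := by rw [h1, ← pow_add]
      exact Nat.eq_of_mul_eq_mul_right (pow_pos hp.out.pos 2) this
    rw [h3, ← pow_add]
  have hsup : U ⊔ V = U ⊔ A := by
    refine eq_of_le_of_card_ge (sup_le le_sup_left hVL) (hL.trans ?_)
    obtain ⟨k, hk⟩ := IsPGroup.iff_card.mp (hG.to_subgroup (U ⊔ V))
    have hlt : U < U ⊔ V := lt_of_le_not_ge le_sup_left fun h =>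
      hne (eq_of_le_of_card_ge (le_sup_right.trans h) (by rw [hUc, hVc])).symm
    have h1 := Core.card_lt_of_lt hlt
    rw [hUc, hk, Nat.pow_lt_pow_iff_right hp1] at h1
    rw [hk]
    exact Nat.pow_le_pow_right hp.out.pos h1
  set J := U ⊓ V with hJ
  have hJH : J ≤ H := by
    intro x hx
    have hxL : U ⊔ V ≤ centralizer ({x} : Set G) := by
      refine sup_le ?_ ?_ <;> intro y hy <;> rw [mem_centralizer_singleton_iff]
      · exact (mem_centralizer_iff.mp (hUU hy) x hx.1).symm
      · exact (mem_centralizer_iff.mp (hVV hy) x hx.2).symm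
    have hxA : x ∈ centralizer (A : Set G) := mem_centralizer_iff.mpr fun y hy =>
      mem_centralizer_singleton_iff.mp (hxL (hsup ▸ mem_sup_right hy))
    exact hUA ▸ (⟨hx.1, hΩ x hxA (hU.2 x hx.1)⟩ : x ∈ U ⊓ A)
  have h4 : Nat.card V * V.relIndex (U ⊔ V) = Nat.card (U ⊔ V : Subgroup G) :=
    Coprime.card_mul_relIndex_of_le le_sup_right
  have h5 : V.relIndex (U ⊔ V) = V.relIndex U := by
    refine le_antisymm ?_ (relIndex_le_of_le_right le_sup_left (by
      rw [relIndex]; exact index_ne_zero_of_finite))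
    have e := (Subgroup.coe_mul_of_left_le_normalizer_right U V hUV)
    rw [relIndex, relIndex, index_eq_card, index_eq_card]
    refine Nat.card_le_card_of_surjective
      (Quotient.lift (fun u : ↥U => ((⟨(u : G), mem_sup_left u.2⟩ : ↥(U ⊔ V)) :
        ↥(U ⊔ V) ⧸ V.subgroupOf (U ⊔ V))) ?_) ?_
    · intro x y hxy
      exact QuotientGroup.eq.mpr ((QuotientGroup.eq (s := V.subgroupOf U)).mp (Quotient.sound hxy) :)
    · intro q
      induction q using QuotientGroup.induction_on with | H w => ?_
      obtain ⟨u, hu, v, hv, huv⟩ := ((Set.ext_iff.mp e _).mp w.2 : (w : G) ∈ (U : Set G) * (V : Set G))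
      refine ⟨((⟨u, hu⟩ : ↥U) : ↥U ⧸ V.subgroupOf U), QuotientGroup.eq.mpr ?_⟩
      show u⁻¹ * (w : G) ∈ V
      rw [← huv]
      simpa using hv
  have h6 := hcard V U
  have h7 : Nat.card (U ⊔ V : Subgroup G) ≤ p ^ 5 := hsup ▸ hL
  have h8 : V.relIndex U ≤ p := by
    rw [← h4, h5, hVc, show p ^ 5 = p ^ 4 * p from pow_succ p 4] at h7
    exact Nat.le_of_mul_le_mul_left h7 (pow_pos hp.out.pos 4)
  rw [← hJ, hUc] at h6
  have h9 : p ^ 4 ≤ p ^ 2 * p := by
    rw [← h6, ← hH]
    exact Nat.mul_le_mul (card_le_of_le hJH) h8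
  rw [← pow_succ, Nat.pow_le_pow_iff_right hp1] at h9
  omega

/-- For `p` odd, an elementary abelian subgroup of order `p ^ 4` forces a normal one. -/
theorem exists_normal_elementary_four (hodd : p ≠ 2) : ∀ (n : ℕ) (G : Type u) [Group G] [Finite G],
    Nat.card G = n → IsPGroup p G → ∀ E : Subgroup G, IsElementaryAbelian p E → Nat.card E = p ^ 4 →
    ∃ A : Subgroup G, A.Normal ∧ IsElementaryAbelian p A ∧ Nat.card A = p ^ 4 := by
  intro n
  induction n using Nat.strong_induction_on with
  | _ n ih =>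
  intro G _ _ hn hG E hE hE4
  by_cases htop : E = ⊤
  · exact ⟨E, htop ▸ inferInstance, hE, hE4⟩
  obtain ⟨M, hM, hEM⟩ := (eq_top_or_exists_le_coatom E).resolve_left htop
  haveI := hG.isNilpotent
  haveI hMn : M.Normal :=
    NormalizerCondition.normal_of_coatom M (Group.normalizerCondition_of_isNilpotent (G := G)) hM
  obtain ⟨U₀, hU₀n, hU₀, hU₀c⟩ := ih (Nat.card M)
    (hn ▸ by simpa using Core.card_lt_of_lt hM.lt_top) M rfl (hG.to_subgroup M) (E.subgroupOf M)
    ⟨(haveI := hE.1; inferInstance),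
      fun x hx => Subtype.ext (by simpa using hE.2 x hx)⟩
    (by rw [Nat.card_congr (subgroupOfEquivOfLe hEM).toEquiv, hE4])
  set U := U₀.map M.subtype with hUdef
  have hUM : U ≤ M := map_subtype_le _
  have hU : IsElementaryAbelian p U := by
    haveI := hU₀.1
    refine ⟨Subgroup.map_isMulCommutative U₀ _, ?_⟩
    rintro _ ⟨x, hx, rfl⟩
    rw [← map_pow, hU₀.2 x hx, map_one]
  have hUc : Nat.card U = p ^ 4 := by rw [card_map_of_injective M.subtype_injective, hU₀c]
  have hMU : M ≤ normalizer (U : Set G) := by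
    intro m hm
    have := le_normalizer_map M.subtype ⟨⟨m, hm⟩, (normalizer_eq_top_iff.mpr hU₀n).ge (mem_top _), rfl⟩
    exact this
  -- a maximal normal elementary abelian subgroup
  by_contra hno
  obtain ⟨A, ⟨hAn, hAe⟩, hmax⟩ := Set.Finite.exists_maximal
    (Set.toFinite {E : Subgroup G | E.Normal ∧ IsElementaryAbelian p E})
    ⟨⊥, inferInstance, inferInstance, fun a ha => by rw [mem_bot.mp ha, one_pow]⟩
  haveI := hAn
  have hΩ : ∀ x ∈ centralizer (A : Set G), x ^ p = 1 → x ∈ A := fun x hx hxp =>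
    OddLocal.mem_of_maximal_normal_elementary hG hodd hAe
      (fun B hB hBe hle => le_antisymm (hmax ⟨hB, hBe⟩ hle) hle) hx hxp
  have hsub : ∀ B : Subgroup G, B ≤ A → IsElementaryAbelian p B := fun B hB =>
    ⟨le_centralizer_iff_isMulCommutative.mp
      ((hB.trans (le_centralizer_iff_isMulCommutative.mpr hAe.1)).trans (centralizer_le hB)),
      fun x hx => hAe.2 x (hB hx)⟩
  obtain ⟨k, hk⟩ := IsPGroup.iff_card.mp (hG.to_subgroup A)
  have hk3 : k ≤ 3 := by
    by_contra hlt
    obtain ⟨L, hL, hLA, hLc⟩ := Fusion.exists_normal_le_card_eq hG A (i := 4)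
      (hk ▸ Nat.pow_le_pow_right hp.out.pos (by omega))
    exact hno ⟨L, hL, hsub L hLA, hLc⟩
  have hk' : k = 3 := by
    refine le_antisymm hk3 ?_
    by_contra hlt
    -- the part of `U` outside the centralizer is too small
    obtain ⟨Z, hZn, hZA, hZc, hZcard⟩ : ∃ Z : Subgroup G, Z.Normal ∧ Z ≤ A ∧
        ⁅A, (⊤ : Subgroup G)⁆ ≤ Z ∧ Nat.card Z ≤ p := by
      rcases Nat.eq_zero_or_pos k with rfl | hpos
      · refine ⟨⊥, inferInstance, bot_le, ?_, by simpa using hp.out.one_le⟩
        rw [pow_zero] at hk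
        rw [eq_bot_of_card_eq A hk, commutator_bot_left]
      · obtain ⟨L, hLn, hLA, hLc⟩ := Fusion.exists_normal_le_card_eq hG A (i := k - 1)
          (hk ▸ Nat.pow_le_pow_right hp.out.pos (by omega))
        haveI := hLn
        have hne : L < A := lt_of_le_of_ne hLA fun e => by
          rw [e, hk] at hLc
          have := Nat.pow_right_injective hp.out.two_le hLc
          omega
        obtain ⟨L', -, -, hL'A, hL'c, hc⟩ := Fusion.exists_normal_card_succ hG L A hne
        have : L' = A := eq_of_le_of_card_ge hL'A (by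
          rw [hL'c, hLc, hk, ← pow_succ']
          exact Nat.pow_le_pow_right hp.out.pos (by omega))
        refine ⟨L, hLn, hLA, this ▸ hc, ?_⟩
        rw [hLc]
        exact (Nat.pow_le_pow_right hp.out.pos (by omega : k - 1 ≤ 1)).trans (pow_one p).le
    haveI := hZn
    set S := U ⊓ centralizer (Z : Set G) with hS
    have hUS : U = S := by
      refine le_antisymm (le_inf le_rfl ?_) inf_le_left
      refine le_trans ?_ ((?_ : (⊤ : Subgroup G) ≤ centralizer (Z : Set G)))
      · exact le_top
      · rcases (Nat.le_one_iff_eq_zero_or_eq_one.mp (show Nat.card Z / p ≤ 1 from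
          (Nat.div_le_div_right hZcard).trans (Nat.div_self hp.out.pos).le)) with h | h
        · have : Z = ⊥ := eq_bot_of_card_eq Z (by
            obtain ⟨j, hj⟩ := IsPGroup.iff_card.mp (hG.to_subgroup Z)
            rcases Nat.eq_zero_or_pos j with rfl | hj0
            · simpa using hj
            · rw [hj, Nat.div_eq_zero_iff] at h
              rcases h with h | h
              · exact absurd h hp.out.ne_zero
              · exact absurd h (Nat.not_lt.mpr (Nat.le_self_pow hj0.ne' p)))
          rw [this]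
          intro x _
          simp [mem_centralizer_iff]
        · have hZp : Nat.card Z = p := le_antisymm hZcard (by
            by_contra hlt'
            rw [Nat.div_eq_of_lt (not_le.mp hlt')] at h
            exact Nat.zero_ne_one h)
          exact le_centralizer_iff.mp ((Fusion.le_center_of_card_eq_prime hG Z hZp).trans (center_le_centralizer _))
    have hUA : Nat.card U ≤ Nat.card A * p := by
      by_cases hZA' : Z = A
      · have : U ≤ A := fun x hx => hΩ x (hZA' ▸ (hUS ▸ hx : x ∈ S).2) (hU.2 x hx)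
        exact (card_le_of_le this).trans (Nat.le_mul_of_pos_right _ hp.out.pos)
      obtain ⟨a, haA, haZ⟩ := SetLike.exists_of_lt (lt_of_le_of_ne hZA hZA')
      have hgen : Z ⊔ zpowers a = A := by
        refine eq_of_le_of_card_ge (sup_le hZA (zpowers_le.mpr haA)) ?_
        obtain ⟨j, hj⟩ := IsPGroup.iff_card.mp (hG.to_subgroup (Z ⊔ zpowers a))
        obtain ⟨i, hi⟩ := IsPGroup.iff_card.mp (hG.to_subgroup Z)
        rw [hk, hj]
        refine Nat.pow_le_pow_right hp.out.pos ?_
        have h1 := Core.card_lt_of_lt (lt_of_le_not_ge le_sup_left fun h : Z ⊔ zpowers a ≤ Z =>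
          haZ (h (mem_sup_right (mem_zpowers a))))
        rw [hi, hj, Nat.pow_lt_pow_iff_right hp.out.one_lt] at h1
        rcases Nat.eq_zero_or_pos i with rfl | hi0
        · by_contra hjk
          have hk2 : k = 2 := by omega
          subst hk2
          -- then `A` is central
          have hAc : A ≤ center G := by
            rw [← commutator_top_right_eq_bot_iff_le_center]
            exact le_bot_iff.mp (hZc.trans (eq_bot_of_card_eq Z (by simpa using hi)).le)
          have hUle : U ≤ A := fun x hx => hΩ x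
            (le_centralizer_iff.mp (hAc.trans (center_le_centralizer _)) hx) (hU.2 x hx)
          have := card_le_of_le hUle
          rw [hUc, hk, Nat.pow_le_pow_iff_right hp.out.one_lt] at this
          omega
        · omega
      have hr : (centralizer ({a} : Set G)).relIndex U ≤ p :=
        (relIndex_centralizer_le U Z a fun s _ => inv_mul_conj_mem hZc haA s).trans hZcard
      have hle : U ⊓ centralizer ({a} : Set G) ≤ A := by
        intro x hx
        refine hΩ x ?_ (hU.2 x hx.1)
        rw [← hgen]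
        exact le_centralizer_sup_zpowers (inf_le_left.trans (hUS.le.trans inf_le_right)) inf_le_right hx
      calc Nat.card U = Nat.card (U ⊓ centralizer ({a} : Set G) : Subgroup G) *
            (centralizer ({a} : Set G)).relIndex U := by
              rw [← Subgroup.inf_relIndex_left U _]
              exact (Coprime.card_mul_relIndex_of_le inf_le_left).symm
        _ ≤ Nat.card A * p := Nat.mul_le_mul (card_le_of_le hle) hr
    rw [hUc, hk, ← pow_succ, Nat.pow_le_pow_iff_right hp.out.one_lt] at hUA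
    omega
  subst hk'
  -- the chain `Z < H < A`
  obtain ⟨H₀, hH₀n, hH₀A, hH₀c⟩ := Fusion.exists_normal_le_card_eq hG A (i := 1)
    (hk ▸ Nat.pow_le_pow_right hp.out.pos (by omega))
  haveI := hH₀n
  obtain ⟨H, hHn, hZH, hHA, hHc, hcH⟩ := Fusion.exists_normal_card_succ hG H₀ A
    (lt_of_le_of_ne hH₀A fun e => by
      rw [e, hk] at hH₀c
      have := Nat.pow_right_injective hp.out.two_le hH₀c
      omega)
  haveI := hHn
  have hHc' : Nat.card H = p ^ 2 := by rw [hHc, hH₀c, pow_one, sq]
  obtain ⟨A', -, -, hA'A, hA'c, hcA⟩ := Fusion.exists_normal_card_succ hG H A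
    (lt_of_le_of_ne hHA fun e => by
      rw [e, hk] at hHc'
      have := Nat.pow_right_injective hp.out.two_le hHc'
      omega)
  have hA'eq : A' = A := eq_of_le_of_card_ge hA'A (by rw [hA'c, hHc', hk, ← pow_succ'])
  rw [hA'eq] at hcA
  -- all conjugates of `U` coincide
  refine hno ⟨U, ?_, hU, hUc⟩
  refine ⟨fun x hx g => ?_⟩
  set V := U.map (MulAut.conj g).toMonoidHom with hVdef
  have hVM : V ≤ M := by
    rintro _ ⟨y, hy, rfl⟩
    exact hMn.conj_mem y (hUM hy) g
  have hV : IsElementaryAbelian p V := by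
    haveI := hU.1
    refine ⟨Subgroup.map_isMulCommutative U _, ?_⟩
    rintro _ ⟨y, hy, rfl⟩
    rw [← map_pow, hU.2 y hy, map_one]
  have hMV : M ≤ normalizer (V : Set G) := by
    intro m hm
    have h1 : g⁻¹ * m * g ∈ M := by simpa using hMn.conj_mem m hm g⁻¹
    have h2 := le_normalizer_map (MulAut.conj g).toMonoidHom ⟨g⁻¹ * m * g, hMU h1, rfl⟩
    have h3 : g * (g⁻¹ * m * g) * g⁻¹ = m := by group
    exact h3 ▸ h2
  have hUV := eq_of_normalize hG hodd hAe.1 hΩ hk hHc' hH₀c hHA hZH hcA hcH
    (Fusion.le_center_of_card_eq_prime hG H₀ (by rw [hH₀c, pow_one]))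
    hU hUc hV ((card_map_of_injective (MulAut.conj g).injective).trans hUc)
    (hUM.trans hMV) (hVM.trans hMU)
  rw [hUV]
  exact ⟨x, hx, rfl⟩

end Cfsg.Agent.PGroupRank
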